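import Groth.Agent.ResGerbe.OnePoint
import Groth.Agent.AlgStBasic.RepCriteria
import Groth.Agent.AlgStBasic.Invariance
import Groth.Agent.AlgStBasic.Permanence
import Groth.Agent.AlgSpBasic.OverField
import Groth.Agent.AlgSp2.MonoEtale
import Groth.Prelude.Def_StGerb

/-!
# Monomorphisms into one-point stacks and residual gerbes
-/

set_option autoImplicit false
set_option backward.isDefEq.respectTransparency false
set_option backward.isDefEq.respectTransparency.types false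

universe u

open CategoryTheory CategoryTheory.Limits AlgebraicGeometry Opposite

noncomputable section

namespace Groth.ResGerbe

open Groth.StkBase Groth.AlgStBasic

variable {S : Scheme.{u}} {𝒳 𝒴 𝒵 : AlgSt.Cat S}

theorem stableBaseChange_isomorphisms :
    StableBaseChange (MorphismProperty.isomorphisms (AlgSp.Sp S)) :=
  fun _ _ _ _ _ _ _ _ _ _ _ _ sq h => MorphismProperty.of_isPullback sq h

theorem nonempty_overMap_id_iso (U : Over S) :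
    Nonempty (AlgSt.overMap (𝟙 U) ≅ BasedFunctor.id (FibCat.overCat U : AlgSt.Cat S)) :=
  (nonempty_overIso_iff (isFibGrpd_overCat U) _ _).2
    ⟨eqToHom (congrArg Over.mk (Category.comp_id _)), isVert_eqToHom _⟩

/-- A base change isomorphic to the base gives a lift. -/
theorem exists_lift_of_isIso (f : 𝒳 ⥤ᵇ 𝒴) {U : Over S} (y : FibCat.overCat U ⥤ᵇ 𝒴) {F : AlgSp.Sp S}
    (e : AlgSt.ofSp F ⥤ᵇ FibCat.fp y f)
    [IsIso (AlgSt.spMapOfOver (BasedFunctor.comp e (FibCat.fpFst y f)))] :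
    ∃ z : FibCat.overCat U ⥤ᵇ 𝒳, Nonempty (BasedFunctor.comp z f ≅ y) := by
  obtain ⟨z, ⟨α⟩⟩ := exists_lift_of_section y e
    (inv (AlgSt.spMapOfOver (BasedFunctor.comp e (FibCat.fpFst y f)))) (𝟙 U)
    (by rw [IsIso.inv_hom_id, CategoryTheory.Functor.map_id])
  obtain ⟨i⟩ := nonempty_overMap_id_iso U
  exact ⟨z, ⟨α.trans (whiskerRightIso i y)⟩⟩

/-- A functor whose base changes are isomorphisms is an equivalence. -/
theorem isEquivOver_of_repWith_iso (hX : FibCat.IsFibGrpd 𝒳.p) (hY : FibCat.IsFibGrpd 𝒴.p)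
    {f : 𝒳 ⥤ᵇ 𝒴} (hf : AlgSt.RepByAlgSpWith (MorphismProperty.isomorphisms (AlgSp.Sp S)) f) :
    FibCat.IsEquivOver f := by
  have hm : AlgSt.IsMono f := repWith_mono (fun _ _ g _ _ (_ : IsIso g) =>
    (inferInstance : Mono g)) hf
  obtain ⟨hfull, hff⟩ := fullyFaithful_of_isMono hX hY f hm
  refine isEquivOver_of_fullyFaithful f hfull hff fun η => ?_
  obtain ⟨F, e, he, hp⟩ := hf (𝒴.p.obj η) (overFunctor hY η rfl)
  have : IsIso (AlgSt.spMapOfOver (BasedFunctor.comp e (FibCat.fpFst (overFunctor hY η rfl) f))) := hp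
  obtain ⟨z, ⟨α⟩⟩ := exists_lift_of_isIso f (overFunctor hY η rfl) e
  obtain ⟨i, hi⟩ := overFunctor_eval hY η rfl
  exact ⟨z.obj (idObj _), isoApp α (idObj _) ≪≫ i, (isVert_isoApp α _).comp hi⟩

/-- A monomorphism to a stack with an fppf field point is empty or an equivalence. -/
theorem isEmpty_or_isEquivOver_of_isMono (h𝒳 : AlgSt.IsAlgStack Scheme.fppfPrecoverage 𝒳)
    (h𝒵 : AlgSt.IsAlgStack Scheme.fppfPrecoverage 𝒵) {f : 𝒳 ⥤ᵇ 𝒵} (hf : AlgSt.IsMono f)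
    {k : Type u} [Field k] {a : Spec (CommRingCat.of k) ⟶ S}
    {z : FibCat.overCat (Over.mk a) ⥤ᵇ 𝒵}
    (hzp : AlgSt.RepByAlgSpWith (AlgSp.LocP @LocallyOfFinitePresentation) z)
    (hzs : AlgSt.RepByAlgSpWith AlgSp.IsSurjectiveMor z)
    (hzf : AlgSt.RepByAlgSpWith (AlgSp.LocP @Flat) z) :
    IsEmpty (AlgSt.Points 𝒳) ∨ FibCat.IsEquivOver f := by
  rcases isEmpty_or_nonempty (AlgSt.Points 𝒳) with h | ⟨⟨q⟩⟩
  · exact Or.inl h
  refine Or.inr (isEquivOver_of_repWith_iso h𝒳.isStack.1 h𝒵.isStack.1 ?_)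
  let W : AlgSp.Space S := ⟨(AlgSp.yon S).obj (Over.mk a), AlgSp.IsAlgSpace.yon_obj _⟩
  let w : AlgSt.ofSp W.obj ⥤ᵇ 𝒵 := BasedFunctor.comp (AlgSt.toOverCat (Over.mk a)) z
  obtain ⟨V, m, e, he, ⟨β⟩, hm⟩ := exists_map_of_repWith h𝒳.isStack.1 h𝒵.isStack.1
    stableBaseChange_mono descendsAlongAtlas_mono hf W w
  have := (points_of_surjective h𝒵 hzs).2
  obtain ⟨t, -⟩ := exists_points_fp h𝒳.isStack.1 h𝒵.isStack.1 (isFibGrpd_ofSp W.obj) f w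
    (spPt (AlgSp.Points.ofScheme (Over.mk a) (IsLocalRing.closedPoint k))) q (Subsingleton.elim _ _)
  obtain ⟨t, -⟩ := (bijective_map_of_isEquivOver he).2 t
  obtain ⟨t, -⟩ := bijective_spPt.2 t
  have : Mono m.hom := hm
  have hiso : IsIso m.hom :=
    (Groth.AlgSpBasic.isEmpty_or_isIso_of_mono V.property m.hom).resolve_left fun h => h.false t
  refine (repWith_iff_exists_map_of_cover h𝒳.isStack.1 h𝒵.isStack.1 stableBaseChange_isomorphisms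
    (isLocalOnBase_fppf_of_fpqc Groth.AlgSp2.isLocalOnBase_fpqc_isomorphisms)
    (repWith_repByAlgSp1 hf) ?_ ?_ ?_).2 ⟨V, m, e, he, ⟨β⟩, hiso⟩
  · exact (repWith_precomp_equiv (isEquivOver_toOverCat _) z).2 hzf
  · exact (repWith_precomp_equiv (isEquivOver_toOverCat _) z).2 hzp
  · exact (repWith_precomp_equiv (isEquivOver_toOverCat _) z).2 hzs

/-- The essential image of a monomorphism. -/
def essIm (f : 𝒵 ⥤ᵇ 𝒳) : 𝒳.obj → Prop := fun ξ => ∃ η : 𝒵.obj, Nonempty (f.obj η ≅ ξ)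

theorem essIm_isClosedUnderIso (f : 𝒵 ⥤ᵇ 𝒳) :
    ObjectProperty.IsClosedUnderIsomorphisms (essIm f) :=
  ⟨fun i ⟨η, ⟨j⟩⟩ => ⟨η, ⟨j ≪≫ i⟩⟩⟩

/-- The functor to the essential image. -/
def toEssIm (f : 𝒵 ⥤ᵇ 𝒳) : 𝒵 ⥤ᵇ AlgSt.fullSub 𝒳 (essIm f) where
  toFunctor := ObjectProperty.lift (essIm f) f.toFunctor fun η => ⟨η, ⟨Iso.refl _⟩⟩
  w := f.w

theorem isEquivOver_toEssIm (hZ : FibCat.IsFibGrpd 𝒵.p) (hX : FibCat.IsFibGrpd 𝒳.p)
    (f : 𝒵 ⥤ᵇ 𝒳) (hf : AlgSt.IsMono f) : FibCat.IsEquivOver (toEssIm f) := by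
  obtain ⟨hfull, hff⟩ := fullyFaithful_of_isMono hZ hX f hf
  refine isEquivOver_of_fullyFaithful _ ⟨fun {A B} φ => ?_⟩ ⟨fun {A B} φ ψ h => ?_⟩ fun ξ => ?_
  · obtain ⟨ψ, hψ⟩ := f.toFunctor.map_surjective φ.hom
    exact ⟨ψ, ObjectProperty.hom_ext _ hψ⟩
  · exact f.toFunctor.map_injective (congrArg (fun t => t.hom) h)
  · obtain ⟨η, ⟨i⟩⟩ := ξ.property
    obtain ⟨η', l, hη', hl⟩ := exists_lift' hZ (x := η)
      (𝒳.p.map i.inv ≫ eqToHom (f.w_obj η))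
    let ψ : f.obj η' ⟶ ξ.obj := f.map l ≫ i.hom
    have hψ : IsVert 𝒳.p ψ := ⟨(f.w_obj η').trans hη', by
      show 𝒳.p.map (f.map l ≫ i.hom) = _
      rw [Functor.map_comp, map_map, hl]
      simp [← Functor.map_comp]⟩
    have := hψ.isIso hX
    let Φ : (toEssIm f).obj η' ≅ ξ := ObjectProperty.isoMk _ (asIso ψ)
    exact ⟨η', Φ, hψ.choose, hψ.choose_spec⟩

theorem smoothLocally_of_isEquivOver {P : Scheme.{u} → Prop} {e : 𝒵 ⥤ᵇ 𝒴}
    (he : FibCat.IsEquivOver e) (h : AlgSt.SmoothLocally P 𝒵) : AlgSt.SmoothLocally P 𝒴 := by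
  obtain ⟨E, hE, -⟩ := isEquivOver_symm he
  exact fun U x hx => h U (BasedFunctor.comp x E) ((repWith_postcomp_equiv x hE).2 hx)

/-- The residual gerbe given by a monomorphism from a reduced locally Noetherian one point stack. -/
theorem exists_isResGerbe (h𝒳 : AlgSt.IsAlgStack Scheme.fppfPrecoverage 𝒳) (x : AlgSt.Points 𝒳)
    (h𝒵 : AlgSt.IsAlgStack Scheme.fppfPrecoverage 𝒵)
    (hred : AlgSt.SmoothLocally (fun T => AlgebraicGeometry.IsReduced T) 𝒵)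
    (hnoeth : AlgSt.SmoothLocally (fun T => IsLocallyNoetherian T) 𝒵)
    (hne : Nonempty (AlgSt.Points 𝒵)) (hsub : Subsingleton (AlgSt.Points 𝒵))
    (f : 𝒵 ⥤ᵇ 𝒳) (hf : AlgSt.IsMono f) (hfx : ∀ p : AlgSt.Points 𝒵, AlgSt.Points.map f p = x) :
    ∃ Q : 𝒳.obj → Prop, Gerb.IsResGerbe Scheme.fppfPrecoverage 𝒳 x Q ∧
      ∃ e : 𝒵 ⥤ᵇ AlgSt.fullSub 𝒳 Q, FibCat.IsEquivOver e ∧
        Nonempty (BasedFunctor.comp e (AlgSt.subIncl 𝒳 Q) ≅ f) := by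
  have he := isEquivOver_toEssIm h𝒵.isStack.1 h𝒳.isStack.1 f hf
  have hb := bijective_map_of_isEquivOver he
  refine ⟨essIm f, ⟨essIm_isClosedUnderIso f, isAlgStack_of_isEquivOver he h𝒵,
    smoothLocally_of_isEquivOver he hred, smoothLocally_of_isEquivOver he hnoeth,
    ⟨AlgSt.Points.map (toEssIm f) hne.some⟩, ?_, ?_⟩,
    toEssIm f, he, ⟨Iso.refl _⟩⟩
  · exact hb.2.subsingleton
  · intro p
    obtain ⟨q, rfl⟩ := hb.2 p
    rw [← map_comp]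
    exact hfx q

theorem isMono_subIncl (h𝒳 : AlgSt.IsAlgStack Scheme.fppfPrecoverage 𝒳) {Q : 𝒳.obj → Prop}
    (hQ : AlgSt.IsAlgStack Scheme.fppfPrecoverage (AlgSt.fullSub 𝒳 Q)) :
    AlgSt.IsMono (AlgSt.subIncl 𝒳 Q) := by
  have : (AlgSt.subIncl 𝒳 Q).toFunctor.Full := inferInstanceAs (ObjectProperty.ι Q).Full
  have : (AlgSt.subIncl 𝒳 Q).toFunctor.Faithful := inferInstanceAs (ObjectProperty.ι Q).Faithful
  exact isMono_of_fullyFaithful hQ h𝒳 _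

/-- Field points in the class of `x` factor through the residual gerbe. -/
theorem exists_factor_resGerbe (h𝒳 : AlgSt.IsAlgStack Scheme.fppfPrecoverage 𝒳)
    (x : AlgSt.Points 𝒳) {Q : 𝒳.obj → Prop}
    (hQ : Gerb.IsResGerbe Scheme.fppfPrecoverage 𝒳 x Q)
    {K : Type u} [Field K] {a : Spec (CommRingCat.of K) ⟶ S}
    (p : FibCat.overCat (Over.mk a) ⥤ᵇ 𝒳)
    (hp : ∀ t : ↥(Over.mk a).left, AlgSt.Points.ofChart p t = x) :
    ∃ q : FibCat.overCat (Over.mk a) ⥤ᵇ AlgSt.fullSub 𝒳 Q,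
      Nonempty (BasedFunctor.comp q (AlgSt.subIncl 𝒳 Q) ≅ p) := by
  obtain ⟨-, hQa, -, -, ⟨z⟩, -, hx⟩ := hQ
  obtain ⟨F, e, he, hm⟩ := isMono_subIncl h𝒳 hQa (Over.mk a) p
  obtain ⟨t, -⟩ := exists_points_fp hQa.isStack.1 h𝒳.isStack.1 (isFibGrpd_overCat _)
    (AlgSt.subIncl 𝒳 Q) p (AlgSt.Points.ofChart (BasedFunctor.id _) (IsLocalRing.closedPoint K)) z
    (by rw [← ofChart_eq_map, hx, hp])
  obtain ⟨t, -⟩ := (bijective_map_of_isEquivOver he).2 t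
  obtain ⟨t, -⟩ := bijective_spPt.2 t
  have : Mono (AlgSt.spMapOfOver (BasedFunctor.comp e (FibCat.fpFst p (AlgSt.subIncl 𝒳 Q)))) := hm
  have := (Groth.AlgSpBasic.isEmpty_or_isIso_of_mono F.property
    (AlgSt.spMapOfOver (BasedFunctor.comp e (FibCat.fpFst p (AlgSt.subIncl 𝒳 Q))))).resolve_left
      fun h => h.false t
  exact exists_lift_of_isIso _ p e

/-- A morphism of stacks induces a morphism of residual gerbes. -/
theorem exists_map_resGerbe (h𝒳 : AlgSt.IsAlgStack Scheme.fppfPrecoverage 𝒳)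
    (h𝒴 : AlgSt.IsAlgStack Scheme.fppfPrecoverage 𝒴) (f : 𝒳 ⥤ᵇ 𝒴) (x : AlgSt.Points 𝒳)
    {Q : 𝒳.obj → Prop} (hQ : Gerb.IsResGerbe Scheme.fppfPrecoverage 𝒳 x Q)
    {Q' : 𝒴.obj → Prop}
    (hQ' : Gerb.IsResGerbe Scheme.fppfPrecoverage 𝒴 (AlgSt.Points.map f x) Q') :
    ∃ g : AlgSt.fullSub 𝒳 Q ⥤ᵇ AlgSt.fullSub 𝒴 Q',
      Nonempty (BasedFunctor.comp g (AlgSt.subIncl 𝒴 Q') ≅
        BasedFunctor.comp (AlgSt.subIncl 𝒳 Q) f) := by
  obtain ⟨-, hQa, hred, hn, hne, hsub, hx⟩ := hQ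
  obtain ⟨-, hQa', -, -, ⟨z'⟩, -, hx'⟩ := hQ'
  let G := BasedFunctor.comp (AlgSt.subIncl 𝒳 Q) f
  let i' := AlgSt.subIncl 𝒴 Q'
  have hP := isAlgStack_fp h𝒴.isStack h𝒴.diag hQa hQa' G i'
  obtain ⟨k, _, a, z, -, hzp, hzs, hzf⟩ := exists_lft_flatPoint hQa hred
  obtain ⟨w, -⟩ := exists_points_fp hQa'.isStack.1 h𝒴.isStack.1 hQa.isStack.1 i' G hne.some z'
    (by rw [hx', map_comp, hx])
  have he : FibCat.IsEquivOver (FibCat.fpFst G i') :=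
    (isEmpty_or_isEquivOver_of_isMono hP hQa (repWith_fpFst i' G (isMono_subIncl h𝒴 hQa'))
      (hzp hn) hzs hzf).resolve_left fun h => h.false w
  obtain ⟨E, hE, -, ⟨β⟩⟩ := isEquivOver_symm he
  exact ⟨BasedFunctor.comp E (FibCat.fpSnd G i'),
    ⟨(whiskerLeftIso E (FibCat.fpIso G i').symm).trans (whiskerRightIso β G)⟩⟩

end Groth.ResGerbe
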