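import Groth.Agent.ResGerbe.Mono
import Groth.Agent.HenselPoint.StackTrip
import Groth.Agent.AlgSp2.FpqcCoverBasic
import Groth.Agent.AlgSp2.AffineDescent
import Groth.Agent.AlgStBasic.LocalLift

/-!
# Descent of bijectivity on morphisms for functors of algebraic stacks
-/

set_option autoImplicit false
set_option backward.isDefEq.respectTransparency false
set_option backward.isDefEq.respectTransparency.types false

universe u

open CategoryTheory CategoryTheory.Limits AlgebraicGeometry Opposite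

noncomputable section

namespace Groth.ResGerbe

open Groth.StkBase Groth.AlgStBasic Groth.HenselPoint

variable {S : Scheme.{u}} {𝒳 𝒴 : AlgSt.Cat S}

/-- Morphisms to the spectrum of a field are flat. -/
theorem flat_to_spec_field {k : Type u} [Field k] {A : Scheme.{u}}
    (p : A ⟶ Spec (CommRingCat.of k)) : Flat p := by
  rw [IsZariskiLocalAtSource.iff_of_openCover (P := @Flat) A.affineOpenCover.openCover]
  intro i
  obtain ⟨φ, hφ⟩ : ∃ φ : CommRingCat.of k ⟶ A.affineOpenCover.X i,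
      Spec.map φ = A.affineOpenCover.f i ≫ p := ⟨_, Spec.map_preimage _⟩
  show Flat (A.affineOpenCover.f i ≫ p)
  rw [← hφ, Flat.SpecMap_iff]
  algebraize [φ.hom]
  exact (inferInstance : Module.Flat k ↑(A.affineOpenCover.X i))

/-- `f` is bijective on vertical morphisms from `a` to `b`. -/
def BijAt (f : 𝒳 ⥤ᵇ 𝒴) (a b : 𝒳.obj) : Prop :=
  ∀ θ : f.obj a ⟶ f.obj b, IsVert 𝒴.p θ → ∃! χ : a ⟶ b, IsVert 𝒳.p χ ∧ f.map χ = θ

theorem BijAt.of_iso {f : 𝒳 ⥤ᵇ 𝒴} {a b a' b' : 𝒳.obj} (h : BijAt f a b) (i : a' ≅ a)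
    (hi : IsVert 𝒳.p i.hom) (j : b ≅ b') (hj : IsVert 𝒳.p j.hom) : BijAt f a' b' := by
  intro θ hθ
  obtain ⟨χ, ⟨hv, hχ⟩, hu⟩ := h (f.map i.inv ≫ θ ≫ f.map j.inv)
    ((isVert_map (IsVert.inv hi)).comp (hθ.comp (isVert_map (IsVert.inv hj))))
  refine ⟨i.hom ≫ χ ≫ j.hom, ⟨hi.comp (hv.comp hj), ?_⟩, fun χ' hχ' => ?_⟩
  · rw [Functor.map_comp, Functor.map_comp, hχ]
    simp only [Category.assoc]
    rw [← Functor.map_comp_assoc, i.hom_inv_id, ← Functor.map_comp, j.inv_hom_id]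
    simp
  · have := hu (i.inv ≫ χ' ≫ j.inv) ⟨(IsVert.inv hi).comp (hχ'.1.comp (IsVert.inv hj)), by
      rw [Functor.map_comp, Functor.map_comp, hχ'.2]⟩
    rw [← this]
    simp

theorem BijAt.symm (hX : FibCat.IsFibGrpd 𝒳.p) (hY : FibCat.IsFibGrpd 𝒴.p) {f : 𝒳 ⥤ᵇ 𝒴}
    {a b : 𝒳.obj} (h : BijAt f a b) : BijAt f b a := by
  intro θ hθ
  have := hθ.isIso hY
  obtain ⟨χ, ⟨hv, hχ⟩, hu⟩ := h (inv θ) (IsVert.inv (φ := asIso θ) hθ)
  have := hv.isIso hX
  refine ⟨inv χ, ⟨IsVert.inv (φ := asIso χ) hv, ?_⟩, fun χ' hχ' => ?_⟩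
  · rw [Functor.map_inv]
    simp [hχ]
  · have := hχ'.1.isIso hX
    have e := hu (inv χ') ⟨IsVert.inv (φ := asIso χ') hχ'.1, by
      rw [Functor.map_inv]
      simp [hχ'.2]⟩
    subst e
    simp

variable {U T : Over S}

/-- `f` is bijective on morphisms between the values of `u'` and `y`. -/
def Bij (f : 𝒳 ⥤ᵇ 𝒴) (u' : FibCat.overCat U ⥤ᵇ 𝒳) (y : FibCat.overCat T ⥤ᵇ 𝒳) : Prop :=
  ∀ (V : Over S) (v : V ⟶ U) (t : V ⟶ T), BijAt f (u'.obj (Over.mk v)) (y.obj (Over.mk t))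

variable {f : 𝒳 ⥤ᵇ 𝒴} {u' : FibCat.overCat U ⥤ᵇ 𝒳} {y : FibCat.overCat T ⥤ᵇ 𝒳}

theorem Bij.symm (hX : FibCat.IsFibGrpd 𝒳.p) (hY : FibCat.IsFibGrpd 𝒴.p) (h : Bij f u' y) :
    Bij f y u' :=
  fun V v t => (h V t v).symm hX hY

theorem Bij.of_iso {u'' : FibCat.overCat U ⥤ᵇ 𝒳} (h : Bij f u' y) (α : u'' ≅ u') : Bij f u'' y :=
  fun V v t => (h V v t).of_iso (isoApp α _) (isVert_isoApp α _) (Iso.refl _) (isVert_id _)

theorem Bij.comp (h : Bij f u' y) {W : Over S}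
    (G : (FibCat.overCat W : AlgSt.Cat S) ⥤ᵇ FibCat.overCat U) : Bij f (BasedFunctor.comp G u') y :=
  fun V v t => by
    have hs : (G.obj (Over.mk v)).left = V := G.w_obj (Over.mk v)
    let i : G.obj (Over.mk v) ≅ Over.mk (eqToHom hs.symm ≫ (G.obj (Over.mk v)).hom) :=
      Over.isoMk (eqToIso hs) (by simp)
    exact (h V _ t).of_iso (u'.toFunctor.mapIso i) (isVert_map (F := u') (φ := i.hom) ⟨hs, rfl⟩)
      (Iso.refl _) (isVert_id _)

theorem Bij.restrict (h : Bij f u' y) {U' : Over S} (c : U' ⟶ U) :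
    Bij f (BasedFunctor.comp (AlgSt.overMap c) u') y :=
  fun V v t => h V (v ≫ c) t

section Descend

variable (f u' y)

/-- A morphism of stacks on triples. -/
def tripMapFun {V : Over S} (τ : Trip u' y V) :
    Trip (BasedFunctor.comp u' f) (BasedFunctor.comp y f) V :=
  ⟨τ.t, τ.v, f.map τ.ι, isVert_map τ.vert⟩

theorem tripMapFun_restrict (hX : FibCat.IsFibGrpd 𝒳.p) (hY : FibCat.IsFibGrpd 𝒴.p) {V W : Over S}
    (τ : Trip u' y V) (g : W ⟶ V) :
    (tripMapFun f u' y τ).restrict hY g = tripMapFun f u' y (τ.restrict hX g) := by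
  refine Trip.restrict_eq hY _ g _ (τ.restrict_t hX g) (τ.restrict_v hX g) ?_
  show f.map (τ.restrict hX g).ι ≫ f.map (y.map _) = f.map (u'.map _) ≫ f.map τ.ι
  rw [← Functor.map_comp, ← Functor.map_comp, τ.restrict_ι hX g]

/-- A morphism of stacks on presheaves of triples. -/
def tripPshMap (hX : FibCat.IsFibGrpd 𝒳.p) (hY : FibCat.IsFibGrpd 𝒴.p) :
    tripPsh u' y hX ⟶ tripPsh (BasedFunctor.comp u' f) (BasedFunctor.comp y f) hY where
  app V := ↾fun τ => tripMapFun f u' y (τ : Trip u' y V.unop)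
  naturality V W g := by
    ext τ
    exact (tripMapFun_restrict f u' y hX hY (τ : Trip u' y V.unop) g.unop).symm

/-- The map of triples to `U`. -/
def tripPshV (hX : FibCat.IsFibGrpd 𝒳.p) : tripPsh u' y hX ⟶ (AlgSp.pyon S).obj U where
  app V := ↾fun τ => ⟨(τ : Trip u' y V.unop).v⟩
  naturality V W g := by
    ext τ
    exact congrArg ULift.up (Trip.restrict_v hX τ g.unop).symm

variable {f u' y}

/-- Bijectivity on morphisms descends along fpqc coverings. -/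
theorem Bij.descend (h𝒳 : AlgSt.IsAlgStack Scheme.fppfPrecoverage 𝒳)
    (h𝒴 : AlgSt.IsAlgStack Scheme.fppfPrecoverage 𝒴) {U' : Over S} (c : U' ⟶ U)
    (hc : AlgSp.IsFpqcCover (fun _ : PUnit.{u + 1} => (AlgSp.yon S).obj U')
      (fun _ => (AlgSp.yon S).map c))
    (h : Bij f (BasedFunctor.comp (AlgSt.overMap c) u') y) : Bij f u' y := by
  have hX := h𝒳.isStack.1
  have hY := h𝒴.isStack.1
  obtain ⟨hs, hA⟩ := exists_trip u' y hX (repByAlgSp1_chart h𝒳 u')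
  obtain ⟨hs', hB⟩ := exists_trip (BasedFunctor.comp u' f) (BasedFunctor.comp y f) hY
    (repByAlgSp1_chart h𝒴 _)
  let φ : tripSp u' y hX hs ⟶ tripSp (BasedFunctor.comp u' f) (BasedFunctor.comp y f) hY hs' :=
    ObjectProperty.homMk (tripPshMap f u' y hX hY)
  let rB : tripSp (BasedFunctor.comp u' f) (BasedFunctor.comp y f) hY hs' ⟶ (AlgSp.yon S).obj U :=
    ObjectProperty.homMk (tripPshV (BasedFunctor.comp u' f) (BasedFunctor.comp y f) hY)
  have sqB := IsPullback.of_hasPullback rB ((AlgSp.yon S).map c)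
  have hB' := Groth.AlgSpBasic.isAlgSpace_of_isPullback sqB (AlgSp.IsAlgSpace.yon_obj U).diag hB
    (AlgSp.IsAlgSpace.yon_obj U')
  have sqA := IsPullback.of_hasPullback φ (pullback.fst rB ((AlgSp.yon S).map c))
  have hA' := Groth.AlgSpBasic.isAlgSpace_of_isPullback sqA hB.diag hA hB'
  have hcov := Groth.AlgSp2.isFpqcCover_baseChange (AlgSp.IsAlgSpace.yon_obj U) hB
    (fun _ : PUnit.{u + 1} => AlgSp.IsAlgSpace.yon_obj U') (fun _ => sqB) hc
  have hiso : IsIso (pullback.snd φ (pullback.fst rB ((AlgSp.yon S).map c))) := by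
    rw [← isIso_iff_of_reflects_iso _ (sheafToPresheaf (AlgSp.J S) (Type (u + 1))),
      NatTrans.isIso_iff_isIso_app]
    intro V
    rw [isIso_iff_bijective]
    have sA := sqA.map (sheafToPresheaf (AlgSp.J S) (Type (u + 1)) ⋙ (evaluation _ _).obj V)
    have sB := sqB.map (sheafToPresheaf (AlgSp.J S) (Type (u + 1)) ⋙ (evaluation _ _).obj V)
    have key : ∀ (b' : (pullback rB ((AlgSp.yon S).map c)).obj.obj V)
        (σ : Trip (BasedFunctor.comp u' f) (BasedFunctor.comp y f) V.unop),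
        (pullback.fst rB ((AlgSp.yon S).map c)).hom.app V b' = σ →
        ∃! τ : Trip u' y V.unop, tripMapFun f u' y τ = σ := by
      rintro b' ⟨σt, σv, σι, hσ⟩ hb
      have hw : (rB.hom.app V) ((pullback.fst rB ((AlgSp.yon S).map c)).hom.app V b') =
          (((AlgSp.yon S).map c).hom.app V) ((pullback.snd rB ((AlgSp.yon S).map c)).hom.app V b') :=
        ConcreteCategory.congr_hom sB.w b'
      rw [hb] at hw
      have hw' : σv = ((pullback.snd rB ((AlgSp.yon S).map c)).hom.app V b').down ≫ c :=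
        congrArg ULift.down hw
      obtain ⟨w, hw'⟩ : ∃ w : V.unop ⟶ U', σv = w ≫ c := ⟨_, hw'⟩
      subst hw'
      obtain ⟨χ, ⟨hv, hχ⟩, hu⟩ := h V.unop w σt σι hσ
      refine ⟨⟨σt, w ≫ c, χ, hv⟩, by simp only [tripMapFun, hχ], ?_⟩
      rintro ⟨t', v', χ', hv'⟩ e
      injection e with e₁ e₂ e₃
      dsimp at e₁ e₂
      subst e₁ e₂
      obtain rfl := hu χ' ⟨hv', eq_of_heq e₃⟩
      rfl
    refine ⟨fun x x' hx => ?_, fun b' => ?_⟩
    · obtain ⟨τ, -, hτ⟩ := key _ _ rfl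
      have h₁ := hτ _ (ConcreteCategory.congr_hom sA.w x)
      have h₂ := hτ _ ((ConcreteCategory.congr_hom sA.w x').trans
        (congrArg (fun z => (pullback.fst rB ((AlgSp.yon S).map c)).hom.app V z) hx.symm))
      exact CategoryTheory.Limits.Types.ext_of_isPullback sA (h₁.trans h₂.symm) hx
    · obtain ⟨τ, hτ, -⟩ := key b' _ rfl
      obtain ⟨x, -, hx⟩ := CategoryTheory.Limits.Types.exists_of_isPullback sA τ b' hτ
      exact ⟨x, hx⟩
  have hφ : IsIso φ := (Groth.AlgSp2.isLocalOnBase_fpqc_isomorphisms _ _ hB (fun _ => hB') hcov φ hA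
    _ _ _ (fun _ => hA') (fun _ => sqA)).2 fun _ => hiso
  intro V v t θ hθ
  have hbij : Function.Bijective (φ.hom.app (op V)) := by
    rw [← isIso_iff_bijective]
    have : IsIso φ.hom := inferInstanceAs (IsIso ((sheafToPresheaf _ _).map φ))
    infer_instance
  obtain ⟨⟨t', v', χ, hv⟩, hτ⟩ := hbij.2 (⟨t, v, θ, hθ⟩ :
    Trip (BasedFunctor.comp u' f) (BasedFunctor.comp y f) V)
  change tripMapFun f u' y ⟨t', v', χ, hv⟩ = _ at hτ
  injection hτ with e₁ e₂ e₃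
  dsimp at e₁ e₂
  subst e₁ e₂
  have e₃ := eq_of_heq e₃
  refine ⟨χ, ⟨hv, e₃⟩, fun χ' hχ' => ?_⟩
  have := hbij.1 (a₁ := (⟨t', v', χ', hχ'.1⟩ : Trip u' y V)) (a₂ := (⟨t', v', χ, hv⟩ : Trip u' y V))
    (by
      show tripMapFun f u' y _ = tripMapFun f u' y _
      simp only [tripMapFun, hχ'.2, e₃])
  injection this

end Descend


/-- An equivalence of self fibre products gives bijectivity on morphisms. -/
theorem bij_of_isEquivOver_fpLift (hX : FibCat.IsFibGrpd 𝒳.p) (hY : FibCat.IsFibGrpd 𝒴.p)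
    (p : FibCat.overCat U ⥤ᵇ 𝒳)
    (e : BasedFunctor.comp (FibCat.fpFst p p) (BasedFunctor.comp p f) ≅
      BasedFunctor.comp (FibCat.fpSnd p p) (BasedFunctor.comp p f))
    (he : ∀ c, e.hom.toNatTrans.app c = f.map c.obj.iso.hom)
    (hiso : FibCat.IsEquivOver (FibCat.fpLift (FibCat.fpFst p p) (FibCat.fpSnd p p) e)) :
    Bij f p p := by
  intro V v t θ hθ
  have := hθ.isIso hY
  obtain ⟨w, φ, hφ⟩ := exists_vert_preimage hiso
    (fpMk (F := BasedFunctor.comp p f) (G := BasedFunctor.comp p f) (Over.mk v) (Over.mk t)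
      (asIso θ) hθ)
  let i₁ := (FibCat.fpFst (BasedFunctor.comp p f) (BasedFunctor.comp p f)).toFunctor.mapIso φ
  let i₂ := (FibCat.fpSnd (BasedFunctor.comp p f) (BasedFunctor.comp p f)).toFunctor.mapIso φ
  have h₁ : IsVert (FibCat.overCat U : AlgSt.Cat S).p i₁.hom := isVert_map hφ
  have h₂ : IsVert (FibCat.overCat U : AlgSt.Cat S).p i₂.hom := isVert_map hφ
  have hw : f.map (p.map i₁.hom) ≫ θ = f.map w.obj.iso.hom ≫ f.map (p.map i₂.hom) := by
    rw [← he]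
    exact φ.hom.hom.w
  refine ⟨p.map i₁.inv ≫ w.obj.iso.hom ≫ p.map i₂.hom,
    ⟨(isVert_map (IsVert.inv h₁)).comp ((fp_isVert w).comp (isVert_map h₂)), ?_⟩, ?_⟩
  · show f.map (p.map i₁.inv ≫ w.obj.iso.hom ≫ p.map i₂.hom) = θ
    rw [Functor.map_comp, Functor.map_comp, ← hw, ← Functor.map_comp_assoc,
      ← Functor.map_comp, i₁.inv_hom_id]
    simp
  · rintro χ' ⟨hv', hχ'⟩
    generalize hχdef : p.map i₁.inv ≫ w.obj.iso.hom ≫ p.map i₂.hom = χ
    have hv : IsVert 𝒳.p χ := hχdef ▸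
      (isVert_map (IsVert.inv h₁)).comp ((fp_isVert w).comp (isVert_map h₂))
    have hχ : f.map χ = θ := by
      rw [← hχdef, Functor.map_comp, Functor.map_comp, ← hw, ← Functor.map_comp_assoc,
        ← Functor.map_comp, i₁.inv_hom_id]
      simp
    have := hv.isIso hX
    have := hv'.isIso hX
    let A := fpMk (F := p) (G := p) (Over.mk v) (Over.mk t) (asIso χ') hv'
    let B := fpMk (F := p) (G := p) (Over.mk v) (Over.mk t) (asIso χ) hv
    let Φ := FibCat.fpLift (FibCat.fpFst p p) (FibCat.fpSnd p p) e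
    have := full_of_isEquivOver hiso
    obtain ⟨m, hm⟩ := Φ.toFunctor.map_surjective (X := A) (Y := B)
      (fpHom (𝟙 _) (𝟙 _) (by
        show f.map (p.map (𝟙 _)) ≫ e.hom.toNatTrans.app B =
          e.hom.toNatTrans.app A ≫ f.map (p.map (𝟙 _))
        rw [he, he]
        erw [p.toFunctor.map_id, p.toFunctor.map_id, f.toFunctor.map_id, f.toFunctor.map_id,
          Category.id_comp, Category.comp_id]
        exact hχ.trans hχ'.symm))
    have hm₁ : m.hom.fst = 𝟙 _ := congrArg (fun r => r.hom.fst) hm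
    have hm₂ : m.hom.snd = 𝟙 _ := congrArg (fun r => r.hom.snd) hm
    have hm₃ : p.map m.hom.fst ≫ χ = χ' ≫ p.map m.hom.snd := m.hom.w
    rw [hm₁, hm₂] at hm₃
    erw [p.toFunctor.map_id, p.toFunctor.map_id, Category.id_comp, Category.comp_id] at hm₃
    exact hm₃.symm

/-- Field points with a common extension have the same bijectivity. -/
theorem Bij.of_fieldPt (h𝒳 : AlgSt.IsAlgStack Scheme.fppfPrecoverage 𝒳)
    (h𝒴 : AlgSt.IsAlgStack Scheme.fppfPrecoverage 𝒴) {k₀ : Type u} [Field k₀]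
    {a₀ : Spec (CommRingCat.of k₀) ⟶ S} (z : FibCat.overCat (Over.mk a₀) ⥤ᵇ 𝒳)
    (p : FibCat.overCat U ⥤ᵇ 𝒳) (h : Bij f p p)
    (q : AlgSt.Points (FibCat.overCat U : AlgSt.Cat S))
    (q₀ : AlgSt.Points (FibCat.overCat (Over.mk a₀) : AlgSt.Cat S))
    (hq : AlgSt.Points.map z q₀ = AlgSt.Points.map p q) : Bij f z z := by
  have hX := h𝒳.isStack.1
  have hY := h𝒴.isStack.1
  obtain ⟨r, -⟩ := exists_points_fp (isFibGrpd_overCat _) hX (isFibGrpd_overCat _) p z q₀ q hq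
  obtain ⟨⟨K, str, x, lies⟩, -⟩ := AlgSt.Points.mk_surjective r
  have lies' : x.obj.fst.left = Over.mk str := lies
  have hs : x.obj.snd.left = x.obj.fst.left := fp_p_snd x
  let v : x.obj.fst.left ⟶ U := eqToHom hs.symm ≫ x.obj.snd.hom
  let i : (Over.mk v : Over U) ≅ x.obj.snd := Over.isoMk (eqToIso hs.symm) rfl
  let j : (Over.mk x.obj.fst.hom : Over (Over.mk a₀)) ≅ x.obj.fst :=
    Over.isoMk (Iso.refl _) (Category.id_comp _)
  let τ : Trip p z x.obj.fst.left :=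
    { t := x.obj.fst.hom
      v := v
      ι := p.map i.hom ≫ x.obj.iso.inv ≫ z.map j.inv
      vert := (isVert_map (F := p) (φ := i.hom) ⟨hs.symm, rfl⟩).comp
        ((IsVert.inv (fp_isVert x)).comp (isVert_map (F := z) (φ := j.inv) ⟨rfl, rfl⟩)) }
  let c : x.obj.fst.left ⟶ Over.mk a₀ := x.obj.fst.hom
  have htop : ∀ {V : Over S} (v' : V ⟶ x.obj.fst.left), ∃ (i : p.obj (Over.mk (v' ≫ v)) ≅
      z.obj (Over.mk (v' ≫ c))), IsVert 𝒳.p i.hom := by
    intro V v'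
    obtain ⟨t₁, v₁, ι₁, hι₁, ht, hv⟩ : ∃ (t₁ : V ⟶ Over.mk a₀) (v₁ : V ⟶ U)
        (ι₁ : p.obj (Over.mk v₁) ⟶ z.obj (Over.mk t₁)) (_ : IsVert 𝒳.p ι₁),
        v' ≫ c = t₁ ∧ v' ≫ v = v₁ :=
      ⟨_, _, (τ.restrict hX v').ι, (τ.restrict hX v').vert, τ.restrict_t hX v', τ.restrict_v hX v'⟩
    subst ht hv
    have := hι₁.isIso hX
    exact ⟨asIso ι₁, hι₁⟩
  have hK : Bij f (BasedFunctor.comp (AlgSt.overMap c) z) (BasedFunctor.comp (AlgSt.overMap c) z) :=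
    fun V v' t' => by
      obtain ⟨i₁, hi₁⟩ := htop v'
      obtain ⟨i₂, hi₂⟩ := htop t'
      exact (h V (v' ≫ v) (t' ≫ v)).of_iso i₁.symm (IsVert.inv hi₁) i₂ hi₂
  have : IsAffine x.obj.fst.left.left := by
    rw [lies']; exact inferInstanceAs (IsAffine (Spec (CommRingCat.of K)))
  have : IsAffine (Over.mk a₀).left := inferInstanceAs (IsAffine (Spec _))
  have : Nonempty ↥x.obj.fst.left.left := by
    rw [lies']; exact inferInstanceAs (Nonempty ↥(Spec (CommRingCat.of K)))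
  have : Flat c.left := flat_to_spec_field c.left
  have : Surjective c.left := ⟨fun s => ⟨Classical.arbitrary _, by
    have : Subsingleton ↥(Spec (CommRingCat.of k₀)) := inferInstance
    exact @Subsingleton.elim _ this _ _⟩⟩
  have hc := Groth.AlgSp2.isFpqcCover_of_flat_surjective c
  exact Bij.descend h𝒳 h𝒴 c hc ((Bij.descend h𝒳 h𝒴 c hc hK).symm hX hY)

/-- Bijectivity at a covering chart gives bijectivity at all charts into it. -/
theorem Bij.of_cover (h𝒳 : AlgSt.IsAlgStack Scheme.fppfPrecoverage 𝒳)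
    (h𝒴 : AlgSt.IsAlgStack Scheme.fppfPrecoverage 𝒴) {𝒵 : AlgSt.Cat S} (ι : 𝒵 ⥤ᵇ 𝒳)
    {Z : Over S} {z : FibCat.overCat Z ⥤ᵇ 𝒵} (h₁ : AlgSt.RepByAlgSpWith (AlgSp.LocP @Flat) z)
    (h₂ : AlgSt.RepByAlgSpWith (AlgSp.LocP @LocallyOfFinitePresentation) z)
    (h₃ : AlgSt.RepByAlgSpWith AlgSp.IsSurjectiveMor z)
    (h : Bij f (BasedFunctor.comp z ι) (BasedFunctor.comp z ι))
    (u₀ : FibCat.overCat U ⥤ᵇ 𝒵) (y₀ : FibCat.overCat T ⥤ᵇ 𝒵) :
    Bij f (BasedFunctor.comp u₀ ι) (BasedFunctor.comp y₀ ι) := by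
  have key : ∀ {U T : Over S} (u₀ : FibCat.overCat U ⥤ᵇ 𝒵) (y : FibCat.overCat T ⥤ᵇ 𝒳),
      Bij f (BasedFunctor.comp z ι) y → Bij f (BasedFunctor.comp u₀ ι) y := by
    intro U T u₀ y hy
    obtain ⟨F, e, he⟩ := repWith_repByAlgSp1 h₁ U u₀
    have q₁ := prop_of_repWith_fp stableBaseChange_locP h₁ u₀ F e he
    have q₂ := prop_of_repWith_fp stableBaseChange_locP h₂ u₀ F e he
    have q₃ := prop_of_repWith_fp stableBaseChange_surjective h₃ u₀ F e he
    obtain ⟨W, r, hr, hrs⟩ := F.property.atlas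
    obtain ⟨c, hc⟩ := (AlgSp.yon S).map_surjective
      (r ≫ AlgSt.spMapOfOver (BasedFunctor.comp e (FibCat.fpFst u₀ z)))
    have hidU := AlgSp.repWith_id @Etale U
    have hcf : Flat c.left := q₁ r (𝟙 _) c hr hidU (by rw [Category.comp_id, hc])
    have hcp : LocallyOfFinitePresentation c.left :=
      q₂ r (𝟙 _) c hr hidU (by rw [Category.comp_id, hc])
    have hcov := Groth.AlgSp2.isFpqcCover_of_isFppfCover (AlgSp.IsAlgSpace.yon_obj U)
      (fun _ : PUnit.{u + 1} => AlgSp.IsAlgSpace.yon_obj W) (g := fun _ => (AlgSp.yon S).map c)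
      ⟨fun _ => ⟨Groth.AlgSpBasic.locP_of_repWith ((AlgSp.repWith_yon_map_iff _ c).2 hcf),
        Groth.AlgSpBasic.locP_of_repWith ((AlgSp.repWith_yon_map_iff _ c).2 hcp)⟩,
        fun v => ⟨⟨⟩, by
          obtain ⟨z', hz'⟩ := q₃ v
          obtain ⟨t, rfl⟩ := Groth.AlgSpBasic.surjective_ofPt_of_repWith hrs z'
          refine ⟨AlgSp.Points.schemeHomeo W t, ?_⟩
          rw [← hz', Groth.AlgSpBasic.ofPt_eq_map, ← AlgSp.Points.map_comp, ← hc]
          rfl⟩⟩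
    obtain ⟨z₁, ⟨α⟩⟩ := exists_lift_of_section u₀ e r c hc
    exact Bij.descend h𝒳 h𝒴 c hcov
      ((hy.comp z₁).of_iso (whiskerRightIso α.symm ι))
  exact key u₀ _ ((key y₀ _ h).symm h𝒳.isStack.1 h𝒴.isStack.1)

end Groth.ResGerbe

namespace Groth.ResGerbe

open Groth.StkBase Groth.AlgStBasic

variable {S : Scheme.{u}}

/-- Bijectivity on vertical morphisms in the image of a fully faithful functor. -/
theorem fullyFaithful_of_bijAt {𝒳 𝒴 𝒵 : AlgSt.Cat S} (hZ : FibCat.IsFibGrpd 𝒵.p)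
    (hY : FibCat.IsFibGrpd 𝒴.p) (f : 𝒳 ⥤ᵇ 𝒴) (ι : 𝒵 ⥤ᵇ 𝒳) [ι.toFunctor.Full] [ι.toFunctor.Faithful]
    (h : ∀ a b : 𝒵.obj, 𝒵.p.obj a = 𝒵.p.obj b → BijAt f (ι.obj a) (ι.obj b)) :
    (BasedFunctor.comp ι f).toFunctor.Full ∧ (BasedFunctor.comp ι f).toFunctor.Faithful := by
  let G := BasedFunctor.comp ι f
  refine ⟨⟨fun {a b} ψ => ?_⟩, faithful_of_vert hZ hY G fun a b χ χ' hχ hχ' e => ?_⟩
  · obtain ⟨b', l, hb', hl⟩ := exists_lift' hZ (x := b)
      (eqToHom (G.w_obj a).symm ≫ 𝒴.p.map ψ ≫ eqToHom (G.w_obj b))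
    have hg : eqToHom ((G.w_obj a).trans (hb'.symm.trans (G.w_obj b').symm)) ≫ 𝒴.p.map (G.map l)
        = 𝒴.p.map ψ := by rw [map_map, hl]; simp
    let ψ' := factor hY (G.map l) ψ _ hg
    have hψ' : IsVert 𝒴.p ψ' := ⟨_, factor_map hY _ _ _ hg⟩
    obtain ⟨χ, ⟨-, hχ⟩, -⟩ := h a b' hb'.symm ψ' hψ'
    obtain ⟨χ₀, hχ₀⟩ := ι.toFunctor.map_surjective χ
    refine ⟨χ₀ ≫ l, ?_⟩
    show G.map (χ₀ ≫ l) = ψ
    rw [Functor.map_comp]
    show f.map (ι.map χ₀) ≫ _ = ψ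
    rw [hχ₀, hχ]
    exact factor_comp hY _ _ _ hg
  · obtain ⟨x, -, hx⟩ := h a b hχ.obj_eq (G.map χ) (isVert_map hχ)
    exact ι.toFunctor.map_injective
      ((hx _ ⟨isVert_map hχ, rfl⟩).trans (hx _ ⟨isVert_map hχ', e.symm⟩).symm)

/-- A morphism with equal self fibre products at a field point is an equivalence of residual gerbes. -/
theorem exists_equiv_resGerbe {𝒳 𝒴 : AlgSt.Cat S}
    (h𝒳 : AlgSt.IsAlgStack Scheme.fppfPrecoverage 𝒳)
    (h𝒴 : AlgSt.IsAlgStack Scheme.fppfPrecoverage 𝒴) (f : 𝒳 ⥤ᵇ 𝒴) (x : AlgSt.Points 𝒳)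
    {Q : 𝒳.obj → Prop} (hQ : Gerb.IsResGerbe Scheme.fppfPrecoverage 𝒳 x Q)
    {Q' : 𝒴.obj → Prop}
    (hQ' : Gerb.IsResGerbe Scheme.fppfPrecoverage 𝒴 (AlgSt.Points.map f x) Q')
    {k : Type u} [Field k] {a : Spec (CommRingCat.of k) ⟶ S}
    (p : FibCat.overCat (Over.mk a) ⥤ᵇ 𝒳)
    (hp : ∀ t : ↥(Over.mk a).left, AlgSt.Points.ofChart p t = x) (h : Bij f p p) :
    ∃ g : AlgSt.fullSub 𝒳 Q ⥤ᵇ AlgSt.fullSub 𝒴 Q',
      Nonempty (BasedFunctor.comp g (AlgSt.subIncl 𝒴 Q') ≅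
        BasedFunctor.comp (AlgSt.subIncl 𝒳 Q) f) ∧ FibCat.IsEquivOver g := by
  obtain ⟨g, ⟨α⟩⟩ := exists_map_resGerbe h𝒳 h𝒴 f x hQ hQ'
  refine ⟨g, ⟨α⟩, ?_⟩
  obtain ⟨-, hQa, hred, hn, hne, hsub, hx⟩ := hQ
  obtain ⟨-, hQa', hred', hn', hne', hsub', -⟩ := hQ'
  let i := AlgSt.subIncl 𝒳 Q
  have : i.toFunctor.Full := inferInstanceAs (ObjectProperty.ι Q).Full
  have : i.toFunctor.Faithful := inferInstanceAs (ObjectProperty.ι Q).Faithful
  obtain ⟨k₀, _, a₀, z, -, hzp, hzs, hzf⟩ := exists_lft_flatPoint hQa hred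
  let pt : ↥(Over.mk a₀).left := IsLocalRing.closedPoint k₀
  have hz : Bij f (BasedFunctor.comp z i) (BasedFunctor.comp z i) :=
    Bij.of_fieldPt h𝒳 h𝒴 (BasedFunctor.comp z i) p h
      (AlgSt.Points.ofChart (BasedFunctor.id _) (IsLocalRing.closedPoint k))
      (AlgSt.Points.ofChart (BasedFunctor.id _) pt) (by
        rw [map_comp, ← ofChart_eq_map, ← ofChart_eq_map, hx, hp])
  obtain ⟨hfull, hff⟩ := fullyFaithful_of_bijAt hQa.isStack.1 h𝒴.isStack.1 f i fun ξ η hξη => by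
    obtain ⟨i₁, hi₁⟩ := overFunctor_eval hQa.isStack.1 ξ (rfl : _ = (AlgSt.fullSub 𝒳 Q).p.obj ξ)
    obtain ⟨i₂, hi₂⟩ := overFunctor_eval hQa.isStack.1 η hξη.symm
    exact (Bij.of_cover h𝒳 h𝒴 i hzf (hzp hn) hzs hz
      (overFunctor hQa.isStack.1 ξ rfl) (overFunctor hQa.isStack.1 η hξη.symm) _ (𝟙 _) (𝟙 _)).of_iso
        (i.toFunctor.mapIso i₁.symm) (isVert_map (F := i) (IsVert.inv hi₁)) (i.toFunctor.mapIso i₂)
        (isVert_map (F := i) hi₂)
  have : (AlgSt.subIncl 𝒴 Q').toFunctor.Faithful :=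
    inferInstanceAs (ObjectProperty.ι Q').Faithful
  let α' : g.toFunctor ⋙ (AlgSt.subIncl 𝒴 Q').toFunctor ≅ (BasedFunctor.comp i f).toFunctor :=
    (BasedNatTrans.forgetful _ _).mapIso α
  have : g.toFunctor.Faithful := Functor.Faithful.of_comp_iso α'
  have : g.toFunctor.Full := Functor.Full.of_comp_faithful_iso α'
  obtain ⟨k₁, _, a₁, z', -, hzp', hzs', hzf'⟩ := exists_lft_flatPoint hQa' hred'
  exact (isEmpty_or_isEquivOver_of_isMono hQa hQa' (isMono_of_fullyFaithful hQa hQa' g)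
    (hzp' hn') hzs' hzf').resolve_left fun hE => hE.false hne.some

end Groth.ResGerbe
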