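import Groth.Agent.AlgStBasic.LocQDescend
import Groth.Agent.AlgStBasic.LocQApps
import Groth.Agent.AlgStBasic.StTopology
import Groth.Agent.AlgStBasic.StCompact
import Groth.Agent.AlgStBasic.StCover
import Groth.Agent.AlgStBasic.StUniv
import Groth.Agent.AlgStBasic.StQc
import Groth.Agent.AlgSpBasic.PointSpace
import Groth.Agent.Agf.SmoothRed
import Groth.Agent.NeronArea.WeilExtensionBase
import Groth.Agent.Ega4Algebra1.RegularLocal
import Groth.Agent.S0116

/-!
# Algebraic stacks with a single point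

A reduced algebraic stack with a single point receives flat surjections from every field point, and
conversely.
-/

set_option autoImplicit false
set_option backward.isDefEq.respectTransparency false
set_option backward.isDefEq.respectTransparency.types false

universe u

open CategoryTheory CategoryTheory.Limits AlgebraicGeometry Opposite

noncomputable section

namespace Groth.ResGerbe

open Groth.StkBase Groth.AlgStBasic

variable {S : Scheme.{u}} {𝒵 : AlgSt.Cat S}

theorem repByAlgSp1_chart (h𝒵 : AlgSt.IsAlgStack Scheme.fppfPrecoverage 𝒵) {U : Over S}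
    (x : FibCat.overCat U ⥤ᵇ 𝒵) : AlgSt.RepByAlgSp1 x :=
  (repByAlgSp1_diag_iff h𝒵.isStack.1).1 h𝒵.diag U x

/-- Charts comparing a smooth chart with a representable chart. -/
theorem exists_chart_pair {U T : Over S} {x : FibCat.overCat U ⥤ᵇ 𝒵}
    (hx : AlgSt.RepByAlgSpWith (AlgSp.LocP @Smooth) x) {z : FibCat.overCat T ⥤ᵇ 𝒵}
    (hz : AlgSt.RepByAlgSp1 z) :
    ∃ (W : Over S) (c : W ⟶ U) (d : W ⟶ T), Smooth d.left ∧
      (∀ (P : MorphismProperty Scheme.{u}) [Groth.AlgSpBasic.EtaleLocal P],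
        AlgSt.RepByAlgSpWith (AlgSp.LocP P) z → P c.left) ∧
      (AlgSt.RepByAlgSpWith AlgSp.IsSurjectiveMor z → Surjective c.left) := by
  obtain ⟨F, e, he⟩ := hz U x
  let Ψ : AlgSt.ofSp F.obj ⥤ᵇ AlgSt.ofSp ((AlgSp.yon S).obj T) :=
    BasedFunctor.comp (BasedFunctor.comp e (FibCat.fpSnd x z)) (AlgSt.ofOverCat T)
  have q₀ : AlgSp.LocP @Smooth (mapOf Ψ) :=
    locP_smooth_mapOf F.property (AlgSp.IsAlgSpace.yon_obj T)
      ((repWith_postcomp_equiv _ (isEquivOver_ofOverCat T)).2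
        ((repWith_precomp_equiv he _).2 (repWith_fpSnd x z hx)))
  obtain ⟨W, r, hr, hrs⟩ := F.property.atlas
  obtain ⟨c, hc⟩ := (AlgSp.yon S).map_surjective
    (r ≫ AlgSt.spMapOfOver (BasedFunctor.comp e (FibCat.fpFst x z)))
  obtain ⟨d, hd⟩ := (AlgSp.yon S).map_surjective (r ≫ mapOf Ψ)
  refine ⟨W, c, d, q₀ r (𝟙 _) d hr (AlgSp.repWith_id @Etale T) (by rw [Category.comp_id, hd]),
    fun P _ hP => ?_, fun hs => ⟨fun v => ?_⟩⟩
  · exact prop_of_repWith_fp stableBaseChange_locP hP x F e he r (𝟙 _) c hr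
      (AlgSp.repWith_id @Etale U) (by rw [Category.comp_id, hc])
  · obtain ⟨q, hq⟩ := prop_of_repWith_fp stableBaseChange_surjective hs x F e he
      (AlgSp.Points.schemeHomeo U v)
    obtain ⟨t, rfl⟩ := Groth.AlgSpBasic.surjective_ofPt_of_repWith hrs q
    refine ⟨t, (AlgSp.Points.schemeHomeo U).injective ?_⟩
    rw [← hq, Groth.AlgSpBasic.ofPt_eq_map, ← AlgSp.Points.map_comp, ← hc]
    exact (AlgSp.Points.map_yon_map_apply _ _).symm

variable {k : Type u} [Field k] {a : Spec (CommRingCat.of k) ⟶ S}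

theorem points_of_surjective (h𝒵 : AlgSt.IsAlgStack Scheme.fppfPrecoverage 𝒵)
    {z : FibCat.overCat (Over.mk a) ⥤ᵇ 𝒵}
    (hs : AlgSt.RepByAlgSpWith AlgSp.IsSurjectiveMor z) :
    Nonempty (AlgSt.Points 𝒵) ∧ Subsingleton (AlgSt.Points 𝒵) := by
  have h := surjective_ofChart h𝒵.isStack.1 hs
  refine ⟨⟨AlgSt.Points.ofChart z (IsLocalRing.closedPoint k)⟩, ⟨fun p q => ?_⟩⟩
  obtain ⟨s, rfl⟩ := h p
  obtain ⟨t, rfl⟩ := h q
  exact congrArg _ (Subsingleton.elim (α := ↥(Spec (CommRingCat.of k))) s t)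

theorem surjective_of_subsingleton (h𝒵 : AlgSt.IsAlgStack Scheme.fppfPrecoverage 𝒵)
    [Subsingleton (AlgSt.Points 𝒵)] (z : FibCat.overCat (Over.mk a) ⥤ᵇ 𝒵) :
    AlgSt.RepByAlgSpWith AlgSp.IsSurjectiveMor z :=
  (isSurjective_iff_repWith (isFibGrpd_overCat _) h𝒵.isStack.1 (repByAlgSp1_chart h𝒵 z)).1
    fun _ => ⟨AlgSt.Points.ofChart (BasedFunctor.id _) (IsLocalRing.closedPoint k),
      Subsingleton.elim _ _⟩

/-- Everything over the spectrum of a field is flat. -/
theorem locQ_flat_to_field {𝒲 : AlgSt.Cat S} (h𝒲 : AlgSt.IsAlgStack Scheme.fppfPrecoverage 𝒲)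
    (f : 𝒲 ⥤ᵇ FibCat.overCat (Over.mk a)) : AlgSt.LocQ (AlgSp.LocP (S := S) @Flat) f := by
  obtain ⟨U, x, hx, hxs⟩ := h𝒲.atlas
  obtain ⟨c, ⟨φ⟩⟩ := exists_iso_overMap (BasedFunctor.comp x f)
  have : Flat c.left := Groth.AlgSpBasic.flat_of_fieldStalks c.left
    (@Groth.AlgSpBasic.fieldStalks_of_etale (Spec (CommRingCat.of k)) k _ (𝟙 _)
      (MorphismProperty.id_mem @Etale _))
  have hid : AlgSt.RepByAlgSpWith (AlgSp.LocP (S := S) @Smooth)
      (BasedFunctor.id (FibCat.overCat (Over.mk a) : AlgSt.Cat S)) :=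
    repWith_of_isEquivOver
      (fun _ _ g _ _ (_ : IsIso g) => Groth.AlgSpBasic.locP_of_repWith (Groth.AlgSpBasic.repWith_isIso g))
      (isEquivOver_id _)
  exact ⟨U, _, x, BasedFunctor.id _, c, φ, hx, hxs, hid, locP_yon_of_left this⟩

/-- With one flat surjective field point, every field point is flat and surjective. -/
theorem flat_surjective_of_flatPoint (h𝒵 : AlgSt.IsAlgStack Scheme.fppfPrecoverage 𝒵)
    {y : FibCat.overCat (Over.mk a) ⥤ᵇ 𝒵} (hys : AlgSt.RepByAlgSpWith AlgSp.IsSurjectiveMor y)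
    (hyf : AlgSt.RepByAlgSpWith (AlgSp.LocP @Flat) y)
    {k' : Type u} [Field k'] {a' : Spec (CommRingCat.of k') ⟶ S}
    (z : FibCat.overCat (Over.mk a') ⥤ᵇ 𝒵) :
    AlgSt.RepByAlgSpWith AlgSp.IsSurjectiveMor z ∧ AlgSt.RepByAlgSpWith (AlgSp.LocP @Flat) z := by
  have := (points_of_surjective h𝒵 hys).2
  refine ⟨surjective_of_subsingleton h𝒵 z, ?_⟩
  have hK := isAlgStack_overCat (Over.mk a)
  have hK' := isAlgStack_overCat (Over.mk a')
  refine repWith_of_locQ stableBaseChange_locP (isLocalOnBase_fppf_locP _) isSmoothLocalST_flat hK' h𝒵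
    (repByAlgSp1_chart h𝒵 z) (locQ_flat_of_fpFst hK' h𝒵 hK ?_ ?_
      (locQ_flat_to_field (isAlgStack_fp h𝒵.isStack h𝒵.diag hK hK' y z) _))
  · exact locQ_of_repWith stableBaseChange_locP descendsAlongAtlas_locP isSmoothLocalST_flat hK h𝒵 hyf
  · exact (isSurjective_iff_repWith (isFibGrpd_overCat _) h𝒵.isStack.1
      (repByAlgSp1_chart h𝒵 y)).2 hys

/-- Composing a map of schemes with a smooth chart. -/
theorem repWith_comp_smooth {P : MorphismProperty Scheme.{u}} [Groth.AlgSpBasic.EtaleLocal P]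
    [P.IsStableUnderComposition] (hP : ∀ ⦃A B : Scheme.{u}⦄ (f : A ⟶ B), Smooth f → P f)
    {T U : Over S} (j : T ⟶ U) (hj : P j.left) {x : FibCat.overCat U ⥤ᵇ 𝒵}
    (hx : AlgSt.RepByAlgSpWith (AlgSp.LocP @Smooth) x) :
    AlgSt.RepByAlgSpWith (AlgSp.LocP P) (BasedFunctor.comp (AlgSt.overMap j) x) :=
  repWith_comp' (isFibGrpd_overCat T) (isFibGrpd_overCat U) stableBaseChange_locP stableComp_locP
    descendsAlongAtlas_locP (repWith_overMap j hj) (repWith_locP_of_smooth hP hx)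

/-- A nonempty reduced stack with one point receives a flat surjection from a field. -/
theorem exists_flatPoint_of_reduced (h𝒵 : AlgSt.IsAlgStack Scheme.fppfPrecoverage 𝒵)
    (hred : AlgSt.SmoothLocally (fun T => AlgebraicGeometry.IsReduced T) 𝒵)
    [hne : Nonempty (AlgSt.Points 𝒵)] [Subsingleton (AlgSt.Points 𝒵)] :
    ∃ (k : Type u) (_ : Field k) (a : Spec (CommRingCat.of k) ⟶ S)
      (y : FibCat.overCat (Over.mk a) ⥤ᵇ 𝒵),
      AlgSt.RepByAlgSpWith AlgSp.IsSurjectiveMor y ∧ AlgSt.RepByAlgSpWith (AlgSp.LocP @Flat) y := by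
  obtain ⟨U, x, hx, hxs⟩ := h𝒵.atlas
  have : IsReduced U.left := hred U x hx
  obtain ⟨p⟩ := hne
  obtain ⟨u₀, -⟩ := surjective_ofChart h𝒵.isStack.1 hxs p
  obtain ⟨w, -, hw⟩ := Groth.AlgSpBasic.exists_ringKrullDim_stalk_eq_zero (⊤ : U.left.Opens)
    ⟨u₀, trivial⟩
  have : Ring.KrullDimLE 0 ↥(U.left.presheaf.stalk w) :=
    (Ring.krullDimLE_iff).2 (by rw [hw]; rfl)
  have hfield : IsField ↥(U.left.presheaf.stalk w) := Ring.KrullDimLE.isField_of_isReduced
  let j : Over.mk (U.left.fromSpecResidueField w ≫ U.hom) ⟶ U :=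
    Over.homMk (U.left.fromSpecResidueField w) rfl
  have hj : Flat j.left := Groth.AlgSpBasic.flat_of_isField_stalk _ fun c => by
    show IsField ↥(U.left.presheaf.stalk ((U.left.fromSpecResidueField w) c))
    rw [show (U.left.fromSpecResidueField w) c = w from Scheme.fromSpecResidueField_apply _ _]
    exact hfield
  exact ⟨U.left.residueField w, inferInstance, _, BasedFunctor.comp (AlgSt.overMap j) x,
    surjective_of_subsingleton h𝒵 _,
    repWith_comp_smooth (P := @Flat) (fun _ _ f (_ : Smooth f) => inferInstance) j hj hx⟩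

/-- A stack with a flat surjection from a field is reduced. -/
theorem smoothLocally_isReduced (h𝒵 : AlgSt.IsAlgStack Scheme.fppfPrecoverage 𝒵)
    {z : FibCat.overCat (Over.mk a) ⥤ᵇ 𝒵} (hs : AlgSt.RepByAlgSpWith AlgSp.IsSurjectiveMor z)
    (hf : AlgSt.RepByAlgSpWith (AlgSp.LocP @Flat) z) :
    AlgSt.SmoothLocally (fun T => AlgebraicGeometry.IsReduced T) 𝒵 := fun U x hx => by
  obtain ⟨W, c, d, hd, hP, hS⟩ := exists_chart_pair hx (repByAlgSp1_chart h𝒵 z)
  have : Surjective c.left := hS hs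
  have : Flat c.left := hP @Flat hf
  have : IsReduced (Over.mk a).left := inferInstanceAs (IsReduced (Spec (CommRingCat.of k)))
  have : IsReduced W.left := Groth.AlgSp2.isReduced_of_smooth_morphism d.left
  exact Groth.Agf.isReduced_of_flat_surjective c.left

/-- A stack with a locally finitely presented flat surjection from a field is locally Noetherian. -/
theorem smoothLocally_isLocallyNoetherian (h𝒵 : AlgSt.IsAlgStack Scheme.fppfPrecoverage 𝒵)
    {z : FibCat.overCat (Over.mk a) ⥤ᵇ 𝒵} (hs : AlgSt.RepByAlgSpWith AlgSp.IsSurjectiveMor z)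
    (hf : AlgSt.RepByAlgSpWith (AlgSp.LocP @Flat) z)
    (hfp : AlgSt.RepByAlgSpWith (AlgSp.LocP @LocallyOfFinitePresentation) z) :
    AlgSt.SmoothLocally (fun T => IsLocallyNoetherian T) 𝒵 := fun U x hx => by
  obtain ⟨W, c, d, hd, hP, hS⟩ := exists_chart_pair hx (repByAlgSp1_chart h𝒵 z)
  have : Surjective c.left := hS hs
  have : Flat c.left := hP @Flat hf
  have : LocallyOfFinitePresentation c.left := hP @LocallyOfFinitePresentation hfp
  have : IsLocallyNoetherian (Over.mk a).left :=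
    inferInstanceAs (IsLocallyNoetherian (Spec (CommRingCat.of k)))
  have : IsLocallyNoetherian W.left := LocallyOfFiniteType.isLocallyNoetherian d.left
  exact Groth.Agent.S0116.result c.left

/-- A locally Noetherian stack with a flat surjection from a field is regular. -/
theorem smoothLocally_regular (h𝒵 : AlgSt.IsAlgStack Scheme.fppfPrecoverage 𝒵)
    (hn : AlgSt.SmoothLocally (fun T => IsLocallyNoetherian T) 𝒵)
    {z : FibCat.overCat (Over.mk a) ⥤ᵇ 𝒵} (hs : AlgSt.RepByAlgSpWith AlgSp.IsSurjectiveMor z)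
    (hf : AlgSt.RepByAlgSpWith (AlgSp.LocP @Flat) z) :
    AlgSt.SmoothLocally (fun T => ∀ t : T, IsRegularLocalRing (T.presheaf.stalk t)) 𝒵 :=
  fun U x hx u => by
  have := hn U x hx
  obtain ⟨W, c, d, hd, hP, hS⟩ := exists_chart_pair hx (repByAlgSp1_chart h𝒵 z)
  have : Surjective c.left := hS hs
  have : Flat c.left := hP @Flat hf
  obtain ⟨w, rfl⟩ := c.left.surjective u
  let d' : W.left ⟶ Spec (CommRingCat.of k) := d.left
  have : Smooth d' := hd
  have hw : IsRegularLocalRing (W.left.presheaf.stalk w) :=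
    Groth.NeronArea.Weil.isRegularLocalRing_of_smooth_dedekind d' w
  algebraize [(c.left.stalkMap w).hom]
  have : Module.Flat ↥(U.left.presheaf.stalk (c.left w)) ↥(W.left.presheaf.stalk w) :=
    (Flat.iff_flat_stalkMap c.left).1 ‹Flat c.left› w
  have : IsLocalHom (algebraMap ↥(U.left.presheaf.stalk (c.left w)) ↥(W.left.presheaf.stalk w)) :=
    inferInstanceAs (IsLocalHom (c.left.stalkMap w).hom)
  exact Groth.Ega4Algebra1.isRegularLocalRing_of_flat _ ↥(W.left.presheaf.stalk w)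

/-- A closed point of an affine open, as a map from a field. -/
theorem exists_lft_point {U : Over S} [Nonempty U.left] :
    ∃ (k : Type u) (_ : Field k) (a : Spec (CommRingCat.of k) ⟶ S) (j : Over.mk a ⟶ U),
      LocallyOfFiniteType j.left ∧
        (IsLocallyNoetherian U.left → LocallyOfFinitePresentation j.left) := by
  obtain ⟨u⟩ := ‹Nonempty U.left›
  obtain ⟨V, hV, huV, -⟩ := exists_isAffineOpen_mem_and_subset (x := u) (U := (⊤ : U.left.Opens)) trivial
  have : Nontrivial Γ(U.left, V) := by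
    have : Nonempty (Spec Γ(U.left, V)) := ⟨hV.primeIdealOf ⟨u, huV⟩⟩
    exact PrimeSpectrum.nonempty_iff_nontrivial.1 ‹_›
  obtain ⟨m, hm⟩ := Ideal.exists_maximal ↑Γ(U.left, V)
  let k : Type u := Γ(U.left, V) ⧸ m
  letI : Field k := Ideal.Quotient.field m
  let i : Spec (CommRingCat.of k) ⟶ U.left :=
    Spec.map (CommRingCat.ofHom (Ideal.Quotient.mk m)) ≫ hV.fromSpec
  have : IsClosedImmersion (Spec.map (CommRingCat.ofHom (Ideal.Quotient.mk m))) :=
    IsClosedImmersion.spec_of_surjective _ Ideal.Quotient.mk_surjective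
  have hi : LocallyOfFiniteType i := by dsimp only [i]; infer_instance
  refine ⟨k, inferInstance, i ≫ U.hom, Over.homMk i rfl, hi, fun hn => ?_⟩
  exact LocallyOfFinitePresentation.iff_locallyOfFiniteType.2 hi

theorem nonempty_chart [Nonempty (AlgSt.Points 𝒵)] (h : FibCat.IsFibGrpd 𝒵.p) {U : Over S}
    {x : FibCat.overCat U ⥤ᵇ 𝒵} (hxs : AlgSt.RepByAlgSpWith AlgSp.IsSurjectiveMor x) :
    Nonempty U.left :=
  ⟨(surjective_ofChart h hxs ‹Nonempty (AlgSt.Points 𝒵)›.some).choose⟩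

/-- A reduced stack with one point has a locally of finite type flat surjection from a field. -/
theorem exists_lft_flatPoint (h𝒵 : AlgSt.IsAlgStack Scheme.fppfPrecoverage 𝒵)
    (hred : AlgSt.SmoothLocally (fun T => AlgebraicGeometry.IsReduced T) 𝒵)
    [Nonempty (AlgSt.Points 𝒵)] [Subsingleton (AlgSt.Points 𝒵)] :
    ∃ (k : Type u) (_ : Field k) (a : Spec (CommRingCat.of k) ⟶ S)
      (z : FibCat.overCat (Over.mk a) ⥤ᵇ 𝒵),
      AlgSt.RepByAlgSpWith (AlgSp.LocP @LocallyOfFiniteType) z ∧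
      (AlgSt.SmoothLocally (fun T => IsLocallyNoetherian T) 𝒵 →
        AlgSt.RepByAlgSpWith (AlgSp.LocP @LocallyOfFinitePresentation) z) ∧
      AlgSt.RepByAlgSpWith AlgSp.IsSurjectiveMor z ∧ AlgSt.RepByAlgSpWith (AlgSp.LocP @Flat) z := by
  obtain ⟨U, x, hx, hxs⟩ := h𝒵.atlas
  have := nonempty_chart h𝒵.isStack.1 hxs
  obtain ⟨k, _, a, j, hj, hjn⟩ := exists_lft_point (U := U)
  obtain ⟨k₀, _, a₀, y, hys, hyf⟩ := exists_flatPoint_of_reduced h𝒵 hred
  exact ⟨k, inferInstance, a, BasedFunctor.comp (AlgSt.overMap j) x,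
    repWith_comp_smooth (P := @LocallyOfFiniteType) (fun _ _ f (_ : Smooth f) => inferInstance) j hj hx,
    fun hn => repWith_comp_smooth (P := @LocallyOfFinitePresentation)
      (fun _ _ f (_ : Smooth f) => inferInstance) j (hjn (hn U x hx)) hx,
    flat_surjective_of_flatPoint h𝒵 hys hyf _⟩

end Groth.ResGerbe
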