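import Groth.Agent.StkRed.Closed
import Groth.Agent.StkGerb.Rigid.Local
import Groth.Agent.StkGerb.Rigid.Point
import Groth.Agent.ArtinAtlas.QuotAtlas
import Groth.Agent.ArtinAtlas.DiagFppf
import Groth.Agent.ResGerbe.Mono

/-!
# The image substack of a field point

A point `z` from a field with `k ×_𝒳 k → k` locally of finite type is an fppf cover of its image.
-/

set_option autoImplicit false
set_option backward.isDefEq.respectTransparency false
set_option backward.isDefEq.respectTransparency.types false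

universe u

open CategoryTheory CategoryTheory.Limits AlgebraicGeometry Opposite
open Groth.StkBase Groth.AlgStBasic Groth.StkRed

noncomputable section

namespace Groth.ResGerbe

variable {S : Scheme.{u}} {𝒳 : AlgSt.Cat S} {k : Type u} [Field k]
variable {a : Spec (CommRingCat.of k) ⟶ S} (z : FibCat.overCat (Over.mk a) ⥤ᵇ 𝒳)

/-- The objects which locally come from the point. -/
def imQ : 𝒳.obj → Prop := locIm (AlgSp.J S) (isFibGrpd_overCat (Over.mk a)) z

/-- The point as a morphism to its image. -/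
def imLift : FibCat.overCat (Over.mk a) ⥤ᵇ AlgSt.fullSub 𝒳 (imQ z) where
  toFunctor := ObjectProperty.lift _ z.toFunctor (locIm_obj _ z)
  w := z.w

theorem isClosedUnderIso_imQ (hX : FibCat.IsFibGrpd 𝒳.p) :
    ObjectProperty.IsClosedUnderIsomorphisms (imQ z) :=
  locIm_iso hX _ z

theorem isStack_imQ (hX : Stk.IsStack (AlgSp.J S) 𝒳) :
    Stk.IsStack (AlgSp.J S) (AlgSt.fullSub 𝒳 (imQ z)) :=
  isStack_fullSub (AlgSp.J S) hX _
    (fun y w l hw => ⟨y, Iso.refl _, locIm_of_hom hX.1 _ _ l hw, isVert_id _⟩)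
    fun V R hR ξ hξ h => by
      subst hξ
      refine ⟨ξ, Iso.refl _, locIm_of_local _ _ hR fun W g hg => ?_, isVert_id _⟩
      obtain ⟨η, l, hη, hl⟩ := exists_lift' hX.1 (x := ξ) g
      have hlift : 𝒳.p.IsHomLift g l := IsHomLift.of_fac' _ _ _ hη rfl (by simp [hl])
      obtain ⟨η', e, he, -⟩ := h g hg η l hlift
      exact ⟨η, l, hlift, locIm_of_hom hX.1 _ _ e.hom he⟩

/-- Objects of the image lift to the point locally. -/
theorem exists_local_lift (hX : FibCat.IsFibGrpd 𝒳.p) {V : Over S}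
    (y : FibCat.overCat V ⥤ᵇ AlgSt.fullSub 𝒳 (imQ z)) :
    ∃ R ∈ AlgSp.J S V, ∀ ⦃W : Over S⦄ (h : W ⟶ V), (R : Sieve V) h →
      ∃ l : W ⟶ Over.mk a, Nonempty (BasedFunctor.comp (AlgSt.overMap l) z ≅
        BasedFunctor.comp (AlgSt.overMap h) (BasedFunctor.comp y (AlgSt.subIncl 𝒳 (imQ z)))) := by
  let y' := BasedFunctor.comp y (AlgSt.subIncl 𝒳 (imQ z))
  have hQ : imQ z (y'.obj (idObj V)) := (y.obj (idObj V)).property
  refine ⟨_, (AlgSp.J S).pullback_stable (eqToHom (y'.w_obj (idObj V)).symm) hQ, fun W h hh => ?_⟩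
  obtain ⟨x, g, hg⟩ := hh
  obtain ⟨h₁, h₂, el⟩ := (isHomLift_iff_eqToHom _ _).1 hg
  have e₀ : W = x.left := h₁.symm.trans (z.w_obj x)
  refine ⟨eqToHom e₀ ≫ x.hom, (nonempty_overIso_iff hX _ _).2 ?_⟩
  let m₁ : Over.mk (𝟙 W ≫ eqToHom e₀ ≫ x.hom) ⟶ x := Over.homMk (eqToHom e₀) (by simp)
  let m₂ : Over.mk (𝟙 W ≫ h) ⟶ idObj V := Over.homMk h (by simp)
  obtain ⟨φ, hφ, -⟩ := exists_vert_iso_of_lifts hX (z.map m₁ ≫ g) (y'.map m₂)
    ((z.w_obj (Over.mk (𝟙 W ≫ eqToHom e₀ ≫ x.hom))).trans (y'.w_obj (Over.mk (𝟙 W ≫ h))).symm) (by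
      rw [Functor.map_comp, map_map, map_map, el]
      show (eqToHom _ ≫ eqToHom e₀ ≫ eqToHom _) ≫ eqToHom _ ≫ (h ≫ _) ≫ eqToHom _ =
        eqToHom _ ≫ eqToHom _ ≫ h ≫ eqToHom _
      simp)
  exact ⟨φ.hom, hφ⟩

variable (h𝒳 : AlgSt.IsAlgStack Scheme.fppfPrecoverage 𝒳)
include h𝒳

/-- A property of the self fibre product of the point passes to the point over its image. -/
theorem repWith_imLift {P : MorphismProperty (AlgSp.Sp S)} (hb : StableBaseChange P)
    (hP : AlgSp.IsLocalOnBase AlgSp.IsFppfCover P)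
    (h : AlgSt.RepByAlgSpWith P (FibCat.fpFst z z)) : AlgSt.RepByAlgSpWith P (imLift z) := by
  intro V y
  have hX := h𝒳.isStack.1
  let i := AlgSt.subIncl 𝒳 (imQ z)
  have : i.toFunctor.Full := inferInstanceAs (ObjectProperty.ι _).Full
  have : i.toFunctor.Faithful := inferInstanceAs (ObjectProperty.ι _).Faithful
  have key : RepFst P (FibCat.fpFst (BasedFunctor.comp y i) z) := by
    obtain ⟨R, hR, hR'⟩ := exists_local_lift z hX y
    refine Groth.StkGerb.repFst_of_locally hb hP (repByAlgSp1_chart h𝒳 z) _ hR fun W m hm => ?_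
    obtain ⟨l, ⟨α⟩⟩ := hR' m hm
    exact RepFst.of_equiv (isEquivOver_fpCongr α (Iso.refl z)) (Iso.refl _)
      (RepFst.of_equiv (isEquivOver_fpPaste (AlgSt.overMap l) z z) (Iso.refl _) (h W _))
  obtain ⟨E, hE, -, ⟨b⟩⟩ := isEquivOver_symm (isEquivOver_fpPost y (imLift z) i)
  exact RepFst.of_equiv (π := FibCat.fpFst (BasedFunctor.comp y i) (BasedFunctor.comp (imLift z) i)) hE
    (whiskerRightIso b (FibCat.fpFst (BasedFunctor.comp y i) (BasedFunctor.comp (imLift z) i))) key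

/-- The point covers its image. -/
theorem imLift_props
    (hlft : AlgSt.LocQ (AlgSp.LocP (S := S) @LocallyOfFiniteType) (FibCat.fpFst z z)) :
    AlgSt.RepByAlgSpWith (AlgSp.LocP @LocallyOfFinitePresentation) (imLift z) ∧
      AlgSt.RepByAlgSpWith AlgSp.IsSurjectiveMor (imLift z) ∧
      AlgSt.RepByAlgSpWith (AlgSp.LocP @Flat) (imLift z) := by
  have hK := isAlgStack_overCat (Over.mk a)
  have hP := isAlgStack_fp h𝒳.isStack h𝒳.diag hK hK z z
  have hr : AlgSt.RepByAlgSp1 (FibCat.fpFst z z) := repByAlgSp1_fpFst _ _ (repByAlgSp1_chart h𝒳 z)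
  have : IsLocallyNoetherian (Over.mk a).left :=
    inferInstanceAs (IsLocallyNoetherian (Spec (CommRingCat.of k)))
  refine ⟨repWith_imLift z h𝒳 stableBaseChange_locP (isLocalOnBase_fppf_locP _)
      (repWith_of_locQ stableBaseChange_locP (isLocalOnBase_fppf_locP _) isSmoothLocalST_lfp
        hP hK hr (Groth.StkGerb.locQ_lfp_of_lft hlft)),
    repWith_imLift z h𝒳 stableBaseChange_surjective Groth.ArtinAtlas.isLocalOnBase_fppf_surjective ?_,
    repWith_imLift z h𝒳 stableBaseChange_locP (isLocalOnBase_fppf_locP _)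
      (repWith_of_locQ stableBaseChange_locP (isLocalOnBase_fppf_locP _) isSmoothLocalST_flat
        hP hK hr (locQ_flat_to_field hP _))⟩
  refine (isSurjective_iff_repWith hP.isStack.1 hK.isStack.1 hr).1 fun p => ?_
  refine ⟨AlgSt.Points.map (FibCat.fpLift (F := z) (G := z) (BasedFunctor.id _) (BasedFunctor.id _)
    (Iso.refl _)) p, ?_⟩
  rw [← map_comp]
  exact map_id p

/-- The image of the point is an algebraic stack and its inclusion a monomorphism. -/
theorem isAlgStack_imQ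
    (hlft : AlgSt.LocQ (AlgSp.LocP (S := S) @LocallyOfFiniteType) (FibCat.fpFst z z)) :
    AlgSt.IsAlgStack Scheme.fppfPrecoverage (AlgSt.fullSub 𝒳 (imQ z)) ∧
      AlgSt.IsMono (AlgSt.subIncl 𝒳 (imQ z)) := by
  let i := AlgSt.subIncl 𝒳 (imQ z)
  have : i.toFunctor.Full := inferInstanceAs (ObjectProperty.ι _).Full
  have : i.toFunctor.Faithful := inferInstanceAs (ObjectProperty.ι _).Faithful
  have hst := isStack_imQ z h𝒳.isStack
  obtain ⟨hp, hs, hf⟩ := imLift_props z h𝒳 hlft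
  have hrep : AlgSt.RepByAlgSp1 i := by
    intro V y
    obtain ⟨F, e, he⟩ := repByAlgSp1_chart h𝒳 z V y
    have he' : FibCat.IsEquivOver (show AlgSt.ofSp F.obj ⥤ᵇ FibCat.fp y (BasedFunctor.comp (imLift z) i) from e) := he
    let M := fpPre (BasedFunctor.id (FibCat.overCat V : AlgSt.Cat S)) (imLift z) y i
    exact Groth.ArtinAtlas.repByAlgSp_of_setoid_fppf_cover
      (isFibSetoid_fp_of_faithful hst.1 h𝒳.isStack.1 i y)
      (isStack_fp _ (isAlgStack_overCat V).isStack hst (isPrestack_of_isStack h𝒳.isStack))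
      F (BasedFunctor.comp (show AlgSt.ofSp F.obj ⥤ᵇ FibCat.fp y (BasedFunctor.comp (imLift z) i) from e) M)
      ((repWith_precomp_equiv he' M).2 (repWith_fpPre_id_left _ y i hf))
      ((repWith_precomp_equiv he' M).2 (repWith_fpPre_id_left _ y i hp))
      ((repWith_precomp_equiv he' M).2 (repWith_fpPre_id_left _ y i hs))
  have hA := isAlgStack_of_repByAlgSp1 hst.1 h𝒳 i hrep
  exact ⟨hA, isMono_of_fullyFaithful hA h𝒳 i⟩

/-- The points of the image are those of the point. -/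
theorem map_subIncl_imQ
    (hlft : AlgSt.LocQ (AlgSp.LocP (S := S) @LocallyOfFiniteType) (FibCat.fpFst z z))
    (q : AlgSt.Points (AlgSt.fullSub 𝒳 (imQ z))) :
    ∃ t : ↥(Over.mk a).left, AlgSt.Points.map (AlgSt.subIncl 𝒳 (imQ z)) q = AlgSt.Points.ofChart z t := by
  obtain ⟨t, rfl⟩ := surjective_ofChart (isStack_imQ z h𝒳.isStack).1 (imLift_props z h𝒳 hlft).2.1 q
  refine ⟨t, ?_⟩
  rw [ofChart_eq_map (imLift z), ← map_comp, ofChart_eq_map z]
  rfl

omit z in
/-- One point substacks with an fppf field point are minimal. -/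
theorem le_of_fieldPt {Q Q' : 𝒳.obj → Prop}
    (hQ : AlgSt.IsAlgStack Scheme.fppfPrecoverage (AlgSt.fullSub 𝒳 Q))
    (hQ' : AlgSt.IsAlgStack Scheme.fppfPrecoverage (AlgSt.fullSub 𝒳 Q'))
    (hiso : ObjectProperty.IsClosedUnderIsomorphisms Q') {k' : Type u} [Field k']
    {a' : Spec (CommRingCat.of k') ⟶ S} {p : FibCat.overCat (Over.mk a') ⥤ᵇ AlgSt.fullSub 𝒳 Q}
    (hp : AlgSt.RepByAlgSpWith (AlgSp.LocP @LocallyOfFinitePresentation) p ∧
      AlgSt.RepByAlgSpWith AlgSp.IsSurjectiveMor p ∧ AlgSt.RepByAlgSpWith (AlgSp.LocP @Flat) p)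
    (q : AlgSt.Points (AlgSt.fullSub 𝒳 Q)) (q' : AlgSt.Points (AlgSt.fullSub 𝒳 Q'))
    (hqq : AlgSt.Points.map (AlgSt.subIncl 𝒳 Q') q' = AlgSt.Points.map (AlgSt.subIncl 𝒳 Q) q)
    (ξ : 𝒳.obj) (hξ : Q ξ) : Q' ξ := by
  let i := AlgSt.subIncl 𝒳 Q
  let i' := AlgSt.subIncl 𝒳 Q'
  obtain ⟨w, -⟩ := exists_points_fp hQ'.isStack.1 h𝒳.isStack.1 hQ.isStack.1 i' i q q' hqq.symm
  have he : FibCat.IsEquivOver (FibCat.fpFst i i') :=
    (isEmpty_or_isEquivOver_of_isMono (isAlgStack_fp h𝒳.isStack h𝒳.diag hQ hQ' i i') hQ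
      (repWith_fpFst i' i (isMono_subIncl h𝒳 hQ')) hp.1 hp.2.1 hp.2.2).resolve_left fun h => h.false w
  obtain ⟨o, φ, -⟩ := exists_vert_preimage he ⟨ξ, hξ⟩
  exact hiso.of_iso (o.obj.iso.symm ≪≫ i.toFunctor.mapIso φ) o.obj.snd.property

end Groth.ResGerbe
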